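import Cfsg.Agent.Lib.Local.SFourFF.App
import Cfsg.Agent.Lib.Sig.QdFusion
import Cfsg.Agent.S1996

/-!
# `Z` and `J` control strong fusion in groups without sections `S₄`
-/

set_option autoImplicit false
set_option linter.style.haveILetI false

universe u

namespace Cfsg.Lib.Local.SFourFF

open Subgroup

/-- The centre, as a functor on groups. -/
def ctrFun (Q : Type u) [Group Q] : Subgroup Q := Subgroup.center Q

/-- The Thompson subgroup for the prime two, as a functor on groups. -/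
def jFun (Q : Type u) [Group Q] : Subgroup Q := Cfsg.thompsonSubgroup 2 Q

theorem isCharPFunctor_ctrFun {p : ℕ} [Fact p.Prime] : Cfsg.IsCharPFunctor.{u} p ctrFun := by
  refine ⟨fun Q _ _ hQ hnt => (nontrivial_iff_ne_bot _).1 hQ.center_nontrivial, fun Q R _ _ _ _ φ => ?_⟩
  ext x
  simp only [ctrFun, mem_map, mem_center_iff]
  constructor
  · rintro ⟨z, hz, rfl⟩ r
    obtain ⟨q, rfl⟩ := φ.surjective r
    show φ q * φ z = φ z * φ q
    rw [← map_mul, ← map_mul, hz]
  · intro hx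
    refine ⟨φ.symm x, fun q => φ.injective ?_, φ.apply_symm_apply x⟩
    rw [map_mul, map_mul, φ.apply_symm_apply, hx]

theorem isCharPFunctor_jFun : Cfsg.IsCharPFunctor.{u} 2 jFun := by
  haveI : Fact (Nat.Prime 2) := ⟨Nat.prime_two⟩
  refine ⟨fun Q _ _ hQ hnt => Thompson.thompson_ne_bot ?_, fun Q R _ _ _ _ φ => Thompson.map_thompson_eq φ⟩
  obtain ⟨n, hn, hn'⟩ := hQ.nontrivial_iff_card.mp hnt
  exact hn' ▸ dvd_pow_self 2 hn.ne'

theorem inducedFunctor_ctrFun {Y : Type u} [Group Y] :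
    Cfsg.inducedFunctor (G := Y) ctrFun = fun P : Subgroup Y => P ⊓ centralizer (P : Set Y) :=
  funext fun P => Cfsg.Lib.Core.center_map_eq_inf_centralizer P

theorem inducedFunctor_jFun {Y : Type u} [Group Y] :
    Cfsg.inducedFunctor (G := Y) jFun = fun P : Subgroup Y => Cfsg.thompsonSubgroupOf 2 P :=
  rfl

theorem zj_controls {Y : Type u} [Group Y] [Finite Y]
    (hfree : ¬ Cfsg.Involves (Equiv.Perm (Fin 4)) Y) :
    Cfsg.FamilyControlsStrongFusionIn 2
      ({Cfsg.inducedFunctor (G := Y) ctrFun, Cfsg.inducedFunctor (G := Y) jFun} :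
        Set (Subgroup Y → Subgroup Y)) ⊤ := by
  haveI : Fact (Nat.Prime 2) := ⟨Nat.prime_two⟩
  refine Cfsg.Agent.S1996.result ctrFun jFun isCharPFunctor_ctrFun isCharPFunctor_jFun
    fun K R hR hc T x => ?_
  have hfree' : ¬ Cfsg.Involves (Equiv.Perm (Fin 4)) (↥K ⧸ R.subgroupOf K) := fun h =>
    hfree (Cfsg.Lib.FusionSys.involves_of_injective K.subtype_injective
      (Cfsg.Lib.FusionSys.involves_of_surjective (QuotientGroup.mk'_surjective _) h))
  obtain ⟨c, hc', n, hn, rfl⟩ := thompson_factor hfree' hc T x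
  refine ⟨c, ?_, n, ?_, rfl⟩
  · rw [inducedFunctor_ctrFun]
    exact centralizer_le_normalizer _ hc'
  · rw [inducedFunctor_jFun]
    exact hn

/-- No family of characteristic functors controls strong fusion in `Qd(p)`. -/
theorem not_controls_of_qd {p : ℕ} [Fact p.Prime] {Y : Type u} [Group Y] [Finite Y]
    (e : Y ≃* ↥(Cfsg.qd p)) (𝓦 : Set (∀ (Q : Type u) [Group Q], Subgroup Q))
    (h𝓦 : ∀ W ∈ 𝓦, Cfsg.IsCharPFunctor.{u} p W) :
    ¬ Cfsg.FamilyControlsStrongFusionIn p ((fun W => Cfsg.inducedFunctor (G := Y) W) '' 𝓦) ⊤ := by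
  rintro ⟨T₀, -, hT₀, hidx, hctl⟩
  rw [relIndex_top_right] at hidx
  set T : Sylow p Y := hT₀.toSylow hidx with hTdef
  have hTc : (T : Subgroup Y) = T₀ := rfl
  obtain ⟨T₁⟩ : Nonempty (Sylow p Y) := inferInstance
  have hT : normalizer ((T : Subgroup Y) : Set Y) ≠ ⊤ :=
    (Cfsg.Lib.Sig.QdFusion.normalizer_inducedFunctor_eq p e (isCharPFunctor_ctrFun (p := p)) T).2
  obtain ⟨A, h, hA, hnot⟩ := Cfsg.Lib.Sig.QdFusion.exists_not_realized p e T hT
  obtain ⟨n, c, h0, hs, -, hl⟩ := hctl A h (mem_top h) (hA T).1 (hA T).2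
  refine hnot (c (Fin.last n)) ?_ hl
  suffices hmem : ∀ i, c i ∈ normalizer ((T : Subgroup Y) : Set Y) from hmem _
  intro i
  induction i using Fin.induction with
  | zero => rw [h0]; exact one_mem _
  | succ i ih =>
    obtain ⟨_, ⟨W, hW, rfl⟩, hstep⟩ := hs i
    have h1 := (mem_inf.1 hstep).2
    have h2 := (Cfsg.Lib.Sig.QdFusion.normalizer_inducedFunctor_eq p e (h𝓦 W hW) T).1
    rw [← hTc, h2] at h1
    simpa using mul_mem h1 ih

end Cfsg.Lib.Local.SFourFF
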